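import Cfsg.Agent.H445.TC
import Cfsg.Agent.S0205
import Cfsg.Agent.S0542
import Cfsg.Agent.LFourB.FixQuat
import Cfsg.Agent.SignalizersComponents.Components
import Cfsg.Agent.SignalizersComponents.SLQuasisimple

/-!
# S3223: components of local subgroups (helper445)

* `TwoClosed.isSolvable`: a 2-closed group is solvable;
* `TC.exists_pos`: a conjugate of `P` contains a Sylow 2-subgroup of a given subgroup `M`;
* `TC.comp`: `TC` passes to components of invariant subgroups `M` such that `P ⊓ M` is a Sylow 2-subgroup of `M`;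
* `NoTC.of_comp`: `NoTC K` for a component `K` of `C(j)`, `j` a 2-element, gives `NoTC L`;
  `NoTC.of_comp_norm`: the same for components of `N(D)`, `D` a 2-subgroup;
* `noTC_sl2`: `NoTC (SL₂(q))`, `q > 3` odd.
-/

set_option autoImplicit false

namespace Cfsg.Agent.H445

open Subgroup Cfsg
open Cfsg.Agent.SignalizersComponents.Components

universe u v

section closed

variable {H : Type*} [Group H]

/-- the subgroup of the 2-elements of a 2-closed group -/
def TwoClosed.core (h : TwoClosed H) : Subgroup H where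
  carrier := {x | Two x}
  one_mem' := ⟨0, by simp⟩
  mul_mem' := fun hx hy => h _ _ hx hy
  inv_mem' := fun hx => hx.inv

/-- **a 2-closed group is solvable** -/
theorem TwoClosed.isSolvable [Finite H] (h : TwoClosed H) : Group.IsSolvable H := by
  have hn : h.core.Normal := ⟨fun x hx g => hx.conj g⟩
  have hp : IsPGroup 2 h.core := by
    rintro ⟨x, k, hk⟩
    exact ⟨k, Subtype.ext hk⟩
  obtain ⟨S⟩ : Nonempty (Sylow 2 H) := inferInstance
  have hS : (S : Subgroup H) = h.core :=
    (S.3 hp fun x hx => two_of_mem S.isPGroup' hx).symm ▸ rfl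
  have hodd : Odd (Nat.card (H ⧸ h.core)) := by
    rw [← Nat.not_even_iff_odd, even_iff_two_dvd]
    have := S.not_dvd_index
    rw [hS] at this
    exact this
  have h1 : Group.IsSolvable (H ⧸ h.core) := Cfsg.Agent.S0205.result hodd
  have h2 : Group.IsSolvable h.core := by
    have : Fact (Nat.Prime 2) := ⟨Nat.prime_two⟩
    have := hp.isNilpotent
    infer_instance
  exact Group.isSolvable_of_ker_le_range h.core.subtype (QuotientGroup.mk' h.core) (by simp)

theorem not_twoClosed_of_quasisimple [Finite H] (h : IsQuasisimple H) : ¬ TwoClosed H := fun h1 =>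
  quasisimple_not_isSolvable h h1.isSolvable

theorem not_twoClosed_of_simple [Finite H] [IsSimpleGroup H] (h : ¬ IsMulCommutative H) : ¬ TwoClosed H := by
  intro h1
  apply h
  have := IsSimpleGroup.comm_iff_isSolvable.2 h1.isSolvable
  exact ⟨⟨this⟩⟩

end closed

section pos

variable {L : Type*} [Group L] {P : Subgroup L} {α : MulAut L}

/-- a conjugate of `P` contains a Sylow 2-subgroup of `M` -/
theorem TC.exists_pos [Finite L] (h : TC P α) (M : Subgroup L) :
    ∃ (P' : Subgroup L) (α' : MulAut L), TC P' α' ∧ Odd (P'.relIndex M) := by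
  obtain ⟨S, rfl⟩ := h.sylow
  obtain ⟨R⟩ : Nonempty (Sylow 2 M) := inferInstance
  obtain ⟨T, hT⟩ := (R.isPGroup'.map M.subtype).exists_le_sylow
  have : Fact (Nat.Prime 2) := ⟨Nat.prime_two⟩
  obtain ⟨g, hg⟩ := MulAction.exists_smul_eq L S T
  refine ⟨_, _, h.conj g, ?_⟩
  have hgT : (S : Subgroup L).map (MulAut.conj g).toMonoidHom = T := by
    rw [← hg]; rfl
  rw [hgT]
  have h1 : ((R : Subgroup M).map M.subtype).relIndex M = (R : Subgroup M).index := by
    have h4 : ((R : Subgroup M).map M.subtype).subgroupOf M = (R : Subgroup M) :=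
      comap_map_eq_self_of_injective M.subtype_injective _
    rw [relIndex, h4]
  have h2 : (T : Subgroup L).relIndex M ∣ ((R : Subgroup M).map M.subtype).relIndex M :=
    relIndex_dvd_of_le_left M hT
  rw [h1] at h2
  refine Odd.of_dvd_nat ?_ h2
  rw [← Nat.not_even_iff_odd, even_iff_two_dvd]
  exact R.not_dvd_index

/-- a normal 2-subgroup `D` of `M` lies in `P`, if `P ⊓ M` is a Sylow 2-subgroup of `M` -/
theorem TC.le_of_normal [Finite L] (h : TC P α) {M D : Subgroup L} (hi : Odd (P.relIndex M)) (hD : IsPGroup 2 D)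
    (hDM : D ≤ M) (hn : M ≤ normalizer (D : Set L)) : D ≤ P := by
  have hp : IsPGroup 2 (P.subgroupOf M) := h.pgr.comap_subtype
  obtain ⟨R, hR⟩ := isSylow hp hi
  have hDn : (D.subgroupOf M).Normal := normal_subgroupOf_of_le_normalizer hn
  have hDp : IsPGroup 2 (D.subgroupOf M) := hD.comap_subtype
  have h1 := hDp.le_sylow_of_normal R
  rw [hR] at h1
  intro d hd
  exact mem_subgroupOf.1 (h1 (mem_subgroupOf.2 hd : (⟨d, hDM hd⟩ : M) ∈ D.subgroupOf M))

/-- the centralizer of a fixed element is invariant -/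
theorem mem_centralizer_of_fix {j : L} (hj : α j = j) : ∀ x ∈ centralizer ({j} : Set L),
    α x ∈ centralizer ({j} : Set L) := by
  intro x hx
  rw [mem_centralizer_singleton_iff] at hx ⊢
  have := congrArg α hx
  rwa [map_mul, map_mul, hj] at this

/-- the normalizer of a pointwise fixed subgroup is invariant -/
theorem mem_normalizer_of_fix {D : Subgroup L} (hD : ∀ x ∈ D, α x = x) (hs : ∀ x, α (α x) = x) :
    ∀ x ∈ normalizer (D : Set L), α x ∈ normalizer (D : Set L) := by
  have h0 : ∀ y, α y ∈ D ↔ y ∈ D := fun y => by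
    constructor
    · intro h
      have := hD _ h
      rw [hs] at this
      rw [this]; exact h
    · intro h
      rw [hD y h]; exact h
  intro x hx
  rw [mem_normalizer_iff] at hx ⊢
  intro y
  have h1 := hx (α y)
  rw [h0] at h1
  rw [h1, ← h0 (x * α y * x⁻¹), map_mul, map_mul, map_inv, hs]

/-- `P ⊓ K` is a Sylow 2-subgroup of the subnormal subgroup `K` -/
theorem TC.odd_subnormal [Finite L] (h : TC P α) {K : Subgroup L} (hK : K.IsSubnormal) : Odd (P.relIndex K) := by
  have : Fact (Nat.Prime 2) := ⟨Nat.prime_two⟩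
  obtain ⟨S, hS⟩ := h.sylow
  obtain ⟨R, hR⟩ := Cfsg.Agent.S0542.result 2 K hK S
  rw [hS] at hR
  have h1 := R.not_dvd_index
  rw [hR, ← even_iff_two_dvd, Nat.not_even_iff_odd] at h1
  exact h1

/-- components are invariant -/
theorem TC.comp_inv [Finite L] (h : TC P α) {K : Subgroup L} (hK : IsComponent K) : ∀ x ∈ K, α x ∈ K := by
  have hodd := h.odd_subnormal hK.1
  have hmap : IsComponent (K.map α.toMonoidHom) := isComponent_map_equiv α hK
  by_cases he : K.map α.toMonoidHom = K
  · intro x hx
    have : α x ∈ K.map α.toMonoidHom := ⟨x, hx, rfl⟩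
    rwa [he] at this
  · exfalso
    have h1 := component_le_centralizer_of_ne hmap hK he
    -- `P ⊓ K` is central in `K`
    have h2 : P.subgroupOf K ≤ center K := by
      intro x hx
      rw [mem_center_iff]
      intro y
      have h3 : (x : L) ∈ K.map α.toMonoidHom := ⟨x, x.2, h.fix x (mem_subgroupOf.1 hx)⟩
      exact Subtype.ext (mem_centralizer_iff.1 (h1 h3) y y.2)
    have h3 : Odd (Nat.card (K ⧸ center K)) := by
      have h4 : (center K).index ∣ (P.subgroupOf K).index := index_dvd_of_le h2
      exact Odd.of_dvd_nat hodd h4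
    have h4 : Group.IsSolvable (K ⧸ center K) := Cfsg.Agent.S0205.result h3
    refine quasisimple_not_isSolvable hK.2 ?_
    have h5 : Group.IsSolvable (center K) := Group.isSolvable_of_comm fun a b =>
      Subtype.ext (mem_center_iff.1 b.2 a)
    exact Group.isSolvable_of_ker_le_range (center K).subtype (QuotientGroup.mk' (center K)) (by simp)

/-- `TC` passes to components -/
theorem TC.comp_top [Finite L] (h : TC P α) {K : Subgroup L} (hK : IsComponent K) :
    ∃ (P' : Subgroup K) (β : MulAut K), TC P' β :=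
  ⟨_, _, h.res K (h.comp_inv hK) (h.odd_subnormal hK.1)⟩

/-- `TC` passes to components of invariant subgroups `M` such that `P ⊓ M` is a Sylow 2-subgroup of `M` -/
theorem TC.comp [Finite L] (h : TC P α) {M K : Subgroup L} (hM : ∀ x ∈ M, α x ∈ M) (hi : Odd (P.relIndex M))
    (hKM : K ≤ M) (hs : (K.subgroupOf M).IsSubnormal) (hq : IsQuasisimple K) :
    ∃ (P' : Subgroup K) (β : MulAut K), TC P' β := by
  have h1 := h.res M hM hi
  obtain ⟨P', β, h2⟩ := h1.comp_top (K := K.subgroupOf M)
    ⟨hs, isQuasisimple_of_mulEquiv (subgroupOfEquivOfLe hKM).symm hq⟩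
  exact ⟨_, _, h2.congr (subgroupOfEquivOfLe hKM)⟩

/-- the general form -/
theorem NoTC.of_comp_gen [Finite L] {D M K : Subgroup L} (hD : IsPGroup 2 D) (hDM : D ≤ M)
    (hn : M ≤ normalizer (D : Set L))
    (hM : ∀ α : MulAut L, (∀ x, α (α x) = x) → (∀ x ∈ D, α x = x) → ∀ x ∈ M, α x ∈ M)
    (hKM : K ≤ M) (hs : (K.subgroupOf M).IsSubnormal) (hq : IsQuasisimple K) (hK : NoTC K) : NoTC L := by
  intro P α h
  obtain ⟨P', α', h', hi⟩ := h.exists_pos M
  have hDP := h'.le_of_normal hi hD hDM hn
  obtain ⟨Q, β, hQ⟩ := h'.comp (hM α' h'.sq fun x hx => h'.fix x (hDP hx)) hi hKM hs hq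
  exact hK _ _ hQ

theorem centralizer_le_normalizer_zpowers (j : L) :
    centralizer ({j} : Set L) ≤ normalizer (zpowers j : Set L) := by
  intro x hx
  rw [mem_centralizer_singleton_iff] at hx
  have h1 : Commute x j := hx
  rw [mem_normalizer_iff]
  intro y
  constructor
  · intro hy
    obtain ⟨n, rfl⟩ := mem_zpowers_iff.1 hy
    rw [(h1.zpow_right n).eq, mul_inv_cancel_right]
    exact hy
  · intro hy
    obtain ⟨n, hn⟩ := mem_zpowers_iff.1 hy
    have h2 : y = j ^ n := by
      calc y = x⁻¹ * (x * y * x⁻¹) * x := by group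
        _ = x⁻¹ * (j ^ n * x) := by rw [← hn]; group
        _ = x⁻¹ * (x * j ^ n) := by rw [(h1.zpow_right n).eq]
        _ = _ := by group
    rw [h2]
    exact zpow_mem (mem_zpowers j) n

/-- **a component `K` with `NoTC K` of the centralizer of a 2-element** -/
theorem NoTC.of_comp [Finite L] {j : L} {K : Subgroup L} (hj : Two j) (hKj : K ≤ centralizer ({j} : Set L))
    (hs : (K.subgroupOf (centralizer ({j} : Set L))).IsSubnormal) (hq : IsQuasisimple K) (hK : NoTC K) : NoTC L := by
  refine NoTC.of_comp_gen (D := zpowers j) (isPGroup_zpowers hj) ?_ ?_ ?_ hKj hs hq hK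
  · rw [zpowers_le, mem_centralizer_singleton_iff]
  · exact centralizer_le_normalizer_zpowers j
  · intro α _ hα
    exact mem_centralizer_of_fix (hα j (mem_zpowers j))

/-- **a component `K` with `NoTC K` of the normalizer of a 2-subgroup** -/
theorem NoTC.of_comp_norm [Finite L] {D K : Subgroup L} (hD : IsPGroup 2 D) (hKj : K ≤ normalizer (D : Set L))
    (hs : (K.subgroupOf (normalizer (D : Set L))).IsSubnormal) (hq : IsQuasisimple K) (hK : NoTC K) : NoTC L :=
  NoTC.of_comp_gen hD le_normalizer le_rfl (fun _ h1 h2 => mem_normalizer_of_fix h2 h1) hKj hs hq hK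

end pos

section sl

/-- **`SL₂(q)`, `q > 3` odd** -/
theorem noTC_sl2 {F : Type*} [Field F] [Fintype F] (ho : Odd (Fintype.card F)) (h3 : 3 < Fintype.card F) :
    NoTC (Matrix.SpecialLinearGroup (Fin 2) F) := by
  intro P α h
  have h2F : (2 : F) ≠ 0 := by
    intro h2
    have h3 : ringChar F ≠ 2 := by
      intro h3
      have h4 := FiniteField.even_card_iff_char_two.1 h3
      rw [Nat.odd_iff] at ho
      omega
    exact Ring.two_ne_zero h3 h2
  have hq : IsQuasisimple (Matrix.SpecialLinearGroup (Fin 2) F) :=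
    Cfsg.Agent.SignalizersComponents.SLQuasisimple.isQuasisimple_two (by rw [Nat.card_eq_fintype_card]; omega)
  obtain ⟨S, rfl⟩ := h.sylow
  have h1 : α = 1 := Cfsg.Agent.LFourB.FixQuat.sl_eq_one h2F S (MulEquiv.ext fun x => h.sq x) h.fix
  obtain ⟨x, hx⟩ := h.ne_one (not_twoClosed_of_quasisimple hq)
  exact hx (by rw [h1]; rfl)

end sl

end Cfsg.Agent.H445
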