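import Cfsg.Agent.H445.Comp
import Cfsg.Agent.SylowLFive.ThreeAux
import Cfsg.Agent.PLocal.SubnormalCore
import Cfsg.Agent.Lib.CoprimeCommutator

/-!
# S3223: subnormal `SL₂(3)` (helper445)

`TC.false_of_sl3`: `TC P α` in `L`, `J` subnormal in `L` with a normal 2-subgroup `Q`, `J / Q` a 3-group, `y ∈ J`
centralized by `C_J(Q)`.  If `w` is a 2-element such that `c = y (w y w⁻¹)⁻¹` has order 3 and does not lie in `O₃(L)`,
there is a contradiction (a conjugate of `y r`, `r ∈ O₃(L)`, is fixed by `α`).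

`NoTC.of_sl3`: the version for local subgroups, `J ≅ SL₂(3)`.
-/

set_option autoImplicit false

namespace Cfsg.Agent.H445

open Subgroup Cfsg
open Cfsg.Agent.SignalizersComponents.Components

universe u v

section lem

variable {L : Type*} [Group L]

/-- `O₂(L) ∩ C(O₂(L))` is centralized by `y` -/
theorem comm_of_subnormal [Finite L] {J : Subgroup L} (hJ : J.IsSubnormal) {Q : Subgroup L} (hQ2 : IsPGroup 2 Q)
    (hQJ : Q ≤ J) (hQn : (Q.subgroupOf J).Normal) {y : L} (hy : y ∈ J) (hy3 : y ^ 3 = 1)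
    (hyc : ∀ x ∈ J, (∀ q ∈ Q, x * q = q * x) → x * y = y * x) :
    ∀ a ∈ pCore 2 L ⊓ centralizer (pCore 2 L : Set L), y * a = a * y := by
  have : Fact (Nat.Prime 2) := ⟨Nat.prime_two⟩
  have hR2n : (pCore 2 L).Normal := Lib.Cores.pCore_normal 2
  set A : Subgroup L := pCore 2 L ⊓ centralizer (pCore 2 L : Set L) with hA
  have hAn : A.Normal := by
    rw [hA]
    infer_instance
  have hQR : Q ≤ pCore 2 L := PLocal.SubnormalCore.le_pCore_of_normal_subnormal hQJ hQn hJ hQ2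
  set Y : Subgroup L := zpowers y with hY
  have hcop : (Nat.card Y).Coprime (Nat.card A) := by
    obtain ⟨n, hn⟩ := IsPGroup.iff_card.1 ((Lib.Cores.pCore_isPGroup 2).to_le (inf_le_left : A ≤ pCore 2 L))
    rw [hn, hY, Nat.card_zpowers]
    apply Nat.Coprime.pow_right
    have h1 : orderOf y ∣ 3 := orderOf_dvd_of_pow_eq_one hy3
    exact Nat.Coprime.coprime_dvd_left h1 (by norm_num)
  have hYA : Y ≤ normalizer (A : Set L) := by
    rw [normalizer_eq_top]; exact le_top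
  have h2 := Lib.CoprimeCommutator.commutator_commutator_eq Y A hYA hcop
  have h3 : ∀ n, itcomm A Y (n + 1) = ⁅A, Y⁆ := by
    intro n
    induction n with
    | zero => rfl
    | succ n ih => rw [itcomm_succ, ih, h2]
  obtain ⟨n, hn⟩ := exists_itcomm_top_le hJ
  have hYJ : Y ≤ J := by rw [hY, zpowers_le]; exact hy
  have h4 : ⁅A, Y⁆ ≤ J := by
    have h5 : itcomm A Y (n + 1) ≤ itcomm ⊤ J (n + 1) := itcomm_mono le_top hYJ _
    rw [h3] at h5
    refine h5.trans ?_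
    rw [itcomm_succ]
    exact (commutator_mono hn le_rfl).trans (commutator_le_self J)
  have h5 : Y ≤ centralizer ((⁅A, Y⁆ : Subgroup L) : Set L) := by
    rw [hY, zpowers_le, mem_centralizer_iff]
    intro x hx
    refine hyc x (h4 hx) ?_
    intro q hq
    have h6 : x ∈ A := Lib.CoprimeCommutator.commutator_le_left hYA hx
    exact (mem_centralizer_iff.1 h6.2 q (hQR hq)).symm
  have h6 := Lib.CoprimeCommutator.le_centralizer_of_commutator Y A hYA hcop h5
  intro a ha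
  exact (mem_centralizer_iff.1 (h6 (mem_zpowers y)) a ha).symm

/-- elements of `O_{2,3}(L) ∩ C(O₂(L))` -/
theorem exists_decomp [Finite L] {N : Subgroup L} (hNn : N.Normal) (hN : ∀ x ∈ N, ∃ k : ℕ, x ^ 3 ^ k ∈ pCore 2 L) {d : L}
    (hd : d ∈ N ⊓ centralizer (pCore 2 L : Set L)) :
    ∃ ζ ∈ pCore 2 L ⊓ centralizer (pCore 2 L : Set L), ∃ r ∈ pCore 3 L, d = ζ * r := by
  have : Fact (Nat.Prime 2) := ⟨Nat.prime_two⟩
  have hp3 : Fact (Nat.Prime 3) := ⟨Nat.prime_three⟩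
  have hR2n : (pCore 2 L).Normal := Lib.Cores.pCore_normal 2
  have hR2p : IsPGroup 2 (pCore 2 L) := Lib.Cores.pCore_isPGroup 2
  set X : Subgroup L := N ⊓ centralizer (pCore 2 L : Set L) with hX
  have hXn : X.Normal := by rw [hX]; infer_instance
  -- the Sylow 3-subgroup of `X` is normal
  obtain ⟨S⟩ : Nonempty (Sylow 3 X) := inferInstance
  set A : Subgroup X := (pCore 2 L).subgroupOf X with hA
  have hAc : A ≤ center X := by
    intro a ha
    rw [mem_center_iff]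
    intro x
    exact Subtype.ext (mem_centralizer_iff.1 x.2.2 _ (mem_subgroupOf.1 ha)).symm
  have hAn : A.Normal := by rw [hA]; infer_instance
  have htop : A ⊔ S = ⊤ := by
    rw [← index_eq_one]
    have h1 : (A ⊔ (S : Subgroup X)).index ∣ A.index := index_dvd_of_le le_sup_left
    have h2 : (A ⊔ (S : Subgroup X)).index ∣ (S : Subgroup X).index := index_dvd_of_le le_sup_right
    have h3 : IsPGroup 3 (X ⧸ A) := by
      intro x
      obtain ⟨x, rfl⟩ := QuotientGroup.mk'_surjective A x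
      obtain ⟨k, hk⟩ := hN x x.2.1
      refine ⟨k, ?_⟩
      rw [← map_pow]
      exact (QuotientGroup.eq_one_iff _).2 (mem_subgroupOf.2 (by simpa using hk))
    obtain ⟨n, hn⟩ := IsPGroup.iff_card.1 h3
    have hn' : A.index = 3 ^ n := hn
    rw [hn'] at h1
    obtain ⟨m, -, hm⟩ := (Nat.dvd_prime_pow Nat.prime_three).1 h1
    rw [hm]
    rcases Nat.eq_zero_or_pos m with h0 | h0
    · rw [h0, pow_zero]
    · exfalso
      apply S.not_dvd_index
      rw [hm] at h2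
      exact (dvd_pow_self 3 (by omega)).trans h2
  have hSn : (S : Subgroup X).Normal := by
    rw [← normalizer_eq_top_iff, eq_top_iff, ← htop]
    refine sup_le ?_ le_normalizer
    intro a ha
    rw [mem_normalizer_iff]
    intro x
    have h1 := mem_center_iff.1 (hAc ha) x
    rw [← h1, mul_inv_cancel_right]
  have hSR : (S : Subgroup X).map X.subtype ≤ pCore 3 L := by
    refine PLocal.SubnormalCore.le_pCore_of_normal_subnormal (K := X) ?_ ?_ hXn.isSubnormal (S.isPGroup'.map _)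
    · rintro _ ⟨x, -, rfl⟩; exact x.2
    · have : ((S : Subgroup X).map X.subtype).subgroupOf X = (S : Subgroup X) :=
        comap_map_eq_self_of_injective X.subtype_injective _
      rw [this]; exact hSn
  have key : ∀ x ∈ X, (∃ k : ℕ, x ^ 3 ^ k = 1) → x ∈ pCore 3 L := by
    rintro x hx ⟨k, hk⟩
    apply hSR
    refine ⟨⟨x, hx⟩, ?_, rfl⟩
    have h1 : IsPGroup 3 (zpowers (⟨x, hx⟩ : X)) := by
      rintro ⟨z, hz⟩
      obtain ⟨n, rfl⟩ := mem_zpowers_iff.1 hz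
      refine ⟨k, Subtype.ext (Subtype.ext ?_)⟩
      change (x ^ n) ^ 3 ^ k = 1
      rw [← zpow_natCast, zpow_comm, zpow_natCast, hk, one_zpow]
    have h2 := h1.inf_normalizer_sylow S
    have hS' : normalizer (S : Set X) = ⊤ := normalizer_eq_top (H := (S : Subgroup X))
    rw [hS', inf_top_eq] at h2
    have h3 : (⟨x, hx⟩ : X) ∈ zpowers (⟨x, hx⟩ : X) ⊓ (S : Subgroup X) := by
      rw [← h2]; exact mem_zpowers _
    exact (mem_inf.1 h3).2
  have hd2 := (mem_inf.1 hd).2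
  obtain ⟨b, hb⟩ := hN d (mem_inf.1 hd).1
  obtain ⟨a, ha⟩ := two_of_mem hR2p hb
  have hcop : Nat.Coprime (3 ^ b) (2 ^ a) := Nat.Coprime.pow _ _ (by norm_num)
  have hbez : (1 : ℤ) = (3 ^ b : ℕ) * Nat.gcdA (3 ^ b) (2 ^ a) + (2 ^ a : ℕ) * Nat.gcdB (3 ^ b) (2 ^ a) := by
    rw [← Nat.gcd_eq_gcd_ab, hcop]; rfl
  have h1 : d = (d ^ 3 ^ b) ^ (Nat.gcdA (3 ^ b) (2 ^ a)) * (d ^ 2 ^ a) ^ (Nat.gcdB (3 ^ b) (2 ^ a)) := by
    conv_lhs => rw [← zpow_one d, hbez, zpow_add, zpow_mul, zpow_mul, zpow_natCast, zpow_natCast]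
  refine ⟨_, mem_inf.2 ⟨zpow_mem hb _, zpow_mem (pow_mem hd2 _) _⟩, _, zpow_mem (key _ (pow_mem hd _) ⟨b, ?_⟩) _, h1⟩
  rw [← pow_mul, mul_comm, pow_mul]; exact ha

/-- `O₂(L)` and `O₃(L)` commute -/
theorem comm_cores [Finite L] {x z : L} (hx : x ∈ pCore 2 L) (hz : z ∈ pCore 3 L) : x * z = z * x := by
  have : Fact (Nat.Prime 2) := ⟨Nat.prime_two⟩
  have hp3 : Fact (Nat.Prime 3) := ⟨Nat.prime_three⟩
  have hR2n : (pCore 2 L).Normal := Lib.Cores.pCore_normal 2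
  have hR3n : (pCore 3 L).Normal := Lib.Cores.pCore_normal 3
  have hR2p : IsPGroup 2 (pCore 2 L) := Lib.Cores.pCore_isPGroup 2
  have hR3p : IsPGroup 3 (pCore 3 L) := Lib.Cores.pCore_isPGroup 3
  have h1 : x * z * x⁻¹ * z⁻¹ = 1 := by
    have h2 : x * z * x⁻¹ * z⁻¹ ∈ pCore 2 L := by
      have : x * z * x⁻¹ * z⁻¹ = x * (z * x⁻¹ * z⁻¹) := by group
      rw [this]
      exact mul_mem hx (hR2n.conj_mem _ (inv_mem hx) z)
    have h3 : x * z * x⁻¹ * z⁻¹ ∈ pCore 3 L := mul_mem (hR3n.conj_mem _ hz x) (inv_mem hz)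
    obtain ⟨k, hk⟩ := hR3p ⟨_, h3⟩
    exact (two_of_mem hR2p h2).eq_one (m := 3 ^ k) (Odd.pow (by decide)) (congrArg Subtype.val hk)
  have h2 := mul_inv_eq_one.1 h1
  calc x * z = (x * z * x⁻¹) * x := by group
    _ = z * x := by rw [h2]

/-- **The subnormal `SL₂(3)`.**: `α` fixes an element of `y O₃(L)`. -/
theorem TC.exists_fix_of_sl3 [Finite L] {P : Subgroup L} {α : MulAut L} (h : TC P α) {J : Subgroup L}
    (hJ : J.IsSubnormal) {Q : Subgroup L} (hQ2 : IsPGroup 2 Q)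
    (hQJ : Q ≤ J) (hQn : (Q.subgroupOf J).Normal) (hJQ : ∀ x ∈ J, x ^ 3 ∈ Q) {y : L} (hy : y ∈ J) (hy3 : y ^ 3 = 1)
    (hyc : ∀ x ∈ J, (∀ q ∈ Q, x * q = q * x) → x * y = y * x) : ∃ r ∈ pCore 3 L, α (y * r) = y * r := by
  have : Fact (Nat.Prime 2) := ⟨Nat.prime_two⟩
  have hp3 : Fact (Nat.Prime 3) := ⟨Nat.prime_three⟩
  have hR2n : (pCore 2 L).Normal := Lib.Cores.pCore_normal 2
  have hR3n : (pCore 3 L).Normal := Lib.Cores.pCore_normal 3
  have hR2p : IsPGroup 2 (pCore 2 L) := Lib.Cores.pCore_isPGroup 2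
  have hR3p : IsPGroup 3 (pCore 3 L) := Lib.Cores.pCore_isPGroup 3
  have hQR : Q ≤ pCore 2 L := PLocal.SubnormalCore.le_pCore_of_normal_subnormal hQJ hQn hJ hQ2
  have hR2P : pCore 2 L ≤ P := by
    obtain ⟨S, hS⟩ := h.sylow
    rw [← hS]
    exact Lib.Cores.pCore_le_sylow S
  -- `N = O_{2,3}(L)`
  let N : Subgroup L := (pCore 3 (L ⧸ pCore 2 L)).comap (QuotientGroup.mk' (pCore 2 L))
  have hN3n : (pCore 3 (L ⧸ pCore 2 L)).Normal := Lib.Cores.pCore_normal 3
  have hNn : N.Normal := hN3n.comap _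
  have hN : ∀ x ∈ N, ∃ k : ℕ, x ^ 3 ^ k ∈ pCore 2 L := by
    intro x hx
    obtain ⟨k, hk⟩ := (Lib.Cores.pCore_isPGroup 3 : IsPGroup 3 (pCore 3 (L ⧸ pCore 2 L))) ⟨_, hx⟩
    refine ⟨k, ?_⟩
    have h1 : (QuotientGroup.mk' (pCore 2 L) x) ^ 3 ^ k = 1 := congrArg Subtype.val hk
    rw [← map_pow] at h1
    exact (QuotientGroup.eq_one_iff _).1 h1
  have hJN : J ≤ N := by
    rw [← map_le_iff_le_comap]
    apply PLocal.SubnormalCore.le_pCore_of_isSubnormal (hJ.map (QuotientGroup.mk'_surjective _))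
    rintro ⟨_, x, hx, rfl⟩
    refine ⟨1, Subtype.ext ?_⟩
    change (QuotientGroup.mk' (pCore 2 L) x) ^ 3 ^ 1 = 1
    rw [pow_one, ← map_pow]
    exact (QuotientGroup.eq_one_iff _).2 (hQR (hJQ x hx))
  -- `α` leaves `O₂(L)`, `O₃(L)` and `N` invariant
  have hα2 : ∀ x, α x ∈ pCore 2 L ↔ x ∈ pCore 2 L := by
    have h1 : ∀ x ∈ pCore 2 L, α x = x := fun x hx => h.fix x (hR2P hx)
    intro x
    constructor
    · intro hx
      have := h1 _ hx
      rw [h.sq] at this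
      rw [this]; exact hx
    · intro hx
      rw [h1 x hx]; exact hx
  have hα3 : ∀ x ∈ pCore 3 L, α x ∈ pCore 3 L := by
    have h1 := (Lib.Cores.pCore_characteristic 3 : (pCore 3 L).Characteristic)
    intro x hx
    have h2 := characteristic_iff_map_eq.1 h1 α
    rw [← h2]
    exact ⟨x, hx, rfl⟩
  have hαN : ∀ x ∈ N, α x ∈ N := by
    have hmap : (pCore 2 L).map (α : L →* L) = pCore 2 L := by
      apply le_antisymm
      · rintro _ ⟨x, hx, rfl⟩
        exact (hα2 x).2 hx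
      · intro x hx
        exact ⟨α x, (hα2 x).2 hx, h.sq x⟩
    let β : (L ⧸ pCore 2 L) ≃* (L ⧸ pCore 2 L) := QuotientGroup.congr _ _ α hmap
    intro x hx
    have h1 := (Lib.Cores.pCore_characteristic 3 : (pCore 3 (L ⧸ pCore 2 L)).Characteristic)
    have h2 := characteristic_iff_map_eq.1 h1 β
    change QuotientGroup.mk' (pCore 2 L) (α x) ∈ pCore 3 (L ⧸ pCore 2 L)
    rw [← h2]
    exact ⟨QuotientGroup.mk' (pCore 2 L) x, hx, rfl⟩
  -- `d = y⁻¹ α(y)`
  have hd : y⁻¹ * α y ∈ N ⊓ centralizer (pCore 2 L : Set L) := by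
    refine mem_inf.2 ⟨mul_mem (inv_mem (hJN hy)) (hαN _ (hJN hy)), ?_⟩
    rw [mem_centralizer_iff]
    intro r hr
    have h1 : α r = r := h.fix r (hR2P hr)
    have h2 : α (y * r * y⁻¹) = y * r * y⁻¹ := h.fix _ (hR2P (hR2n.conj_mem r hr y))
    rw [map_mul, map_mul, map_inv, h1] at h2
    calc r * (y⁻¹ * α y) = y⁻¹ * (y * r * y⁻¹) * α y := by group
      _ = y⁻¹ * (α y * r * (α y)⁻¹) * α y := by rw [h2]
      _ = _ := by group
  obtain ⟨ζ, hζ, r, hr, hdr⟩ := exists_decomp hNn hN hd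
  have hζy := comm_of_subnormal hJ hQ2 hQJ hQn hy hy3 hyc ζ hζ
  -- `ζ` and `O₃(L)` commute
  have hdisj : ∀ x ∈ pCore 2 L, x ∈ pCore 3 L → x = 1 := by
    intro x hx hx'
    obtain ⟨k, hk⟩ := hR3p ⟨x, hx'⟩
    exact (two_of_mem hR2p hx).eq_one (m := 3 ^ k) (Odd.pow (by decide)) (congrArg Subtype.val hk)
  have hcomm : ∀ x ∈ pCore 2 L, ∀ z ∈ pCore 3 L, x * z = z * x := fun x hx z hz => comm_cores hx hz
  have hrm : QuotientGroup.mk' (pCore 3 L) r = 1 := (QuotientGroup.eq_one_iff _).2 hr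
  have hζ' := mem_inf.1 hζ
  have hζ1 : ζ = 1 := by
    have hαy : α y = y * r * ζ := by
      rw [mul_assoc, ← hcomm ζ hζ'.1 r hr, ← hdr]; group
    have h1 : (α y) ^ 3 = 1 := by rw [← map_pow, hy3, map_one]
    have hc1 : Commute (y * r) ζ := by
      change y * r * ζ = ζ * (y * r)
      rw [mul_assoc, ← hcomm ζ hζ'.1 r hr, ← mul_assoc, hζy, mul_assoc]
    rw [hαy, hc1.mul_pow] at h1
    have h2 : (y * r) ^ 3 ∈ pCore 3 L := by
      have h3 : QuotientGroup.mk' (pCore 3 L) ((y * r) ^ 3) = 1 := by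
        rw [map_pow, map_mul, hrm, mul_one, ← map_pow, hy3, map_one]
      exact (QuotientGroup.eq_one_iff _).1 h3
    have h4 : ζ ^ 3 ∈ pCore 3 L := by
      have : ζ ^ 3 = ((y * r) ^ 3)⁻¹ := (inv_eq_of_mul_eq_one_right h1).symm
      rw [this]; exact inv_mem h2
    have h5 : ζ ^ 3 = 1 := hdisj _ (pow_mem hζ'.1 3) h4
    exact (two_of_mem hR2p hζ'.1).eq_one (m := 3) (by decide) h5
  have hαy : α y = y * r := by
    rw [hζ1, one_mul] at hdr
    rw [← hdr]; group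
  -- `α` inverts `r`
  have hαr : α r = r⁻¹ := by
    have h1 := h.sq y
    rw [hαy, map_mul, hαy, mul_assoc] at h1
    exact (inv_eq_of_mul_eq_one_right (mul_eq_left.1 h1)).symm
  obtain ⟨k, hk⟩ := hR3p ⟨r, hr⟩
  have hrk : r ^ 3 ^ k = 1 := congrArg Subtype.val hk
  obtain ⟨m, hm⟩ : Odd (3 ^ k) := Odd.pow (by decide)
  rw [hm] at hrk
  -- the fixed element
  obtain ⟨y', hy'⟩ : ∃ y', y' = y * r ^ (m + 1) := ⟨_, rfl⟩
  have hfix : α y' = y' := by
    rw [hy', map_mul, map_pow, hαr, hαy, mul_assoc]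
    congr 1
    have h1 : r ^ m * r ^ (m + 1) = 1 := by
      rw [← pow_add, show m + (m + 1) = 2 * m + 1 by ring, hrk]
    rw [pow_succ' r⁻¹ m, mul_inv_cancel_left, inv_pow, inv_eq_of_mul_eq_one_right h1]
  exact ⟨r ^ (m + 1), pow_mem hr _, hy' ▸ hfix⟩

/-- the version with an element `w` -/
theorem TC.false_of_sl3 [Finite L] {P : Subgroup L} {α : MulAut L} (h : TC P α) {J : Subgroup L}
    (hJ : J.IsSubnormal) {Q : Subgroup L} (hQ2 : IsPGroup 2 Q)
    (hQJ : Q ≤ J) (hQn : (Q.subgroupOf J).Normal) (hJQ : ∀ x ∈ J, x ^ 3 ∈ Q) {y w : L} (hy : y ∈ J) (hy3 : y ^ 3 = 1)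
    (hyc : ∀ x ∈ J, (∀ q ∈ Q, x * q = q * x) → x * y = y * x) (hw : Two w)
    (hc3 : (y * (w * y * w⁻¹)⁻¹) ^ 3 = 1) (hc : y * (w * y * w⁻¹)⁻¹ ∉ pCore 3 L) : False := by
  have : Fact (Nat.Prime 2) := ⟨Nat.prime_two⟩
  have hp3 : Fact (Nat.Prime 3) := ⟨Nat.prime_three⟩
  -- a conjugate of `P` contains `w`
  wlog hwP : w ∈ P generalizing P α with H
  · obtain ⟨P', α', h', hi⟩ := h.exists_pos (zpowers w)
    refine H h' ?_
    have h1 := h'.le_of_normal (M := zpowers w) (D := zpowers w) hi (isPGroup_zpowers hw) le_rfl le_normalizer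
    exact h1 (mem_zpowers w)
  have hR3n : (pCore 3 L).Normal := Lib.Cores.pCore_normal 3
  obtain ⟨r, hr, hfix⟩ := h.exists_fix_of_sl3 hJ hQ2 hQJ hQn hJQ hy hy3 hyc
  have h1 := h.comm_two (h.fix w hwP) hw hfix
  have hrm : QuotientGroup.mk' (pCore 3 L) r = 1 := (QuotientGroup.eq_one_iff _).2 hr
  have hmk : QuotientGroup.mk' (pCore 3 L) (y * r) = QuotientGroup.mk' (pCore 3 L) y := by
    rw [map_mul, hrm, mul_one]
  have h2 : QuotientGroup.mk' (pCore 3 L) (w * ((y * r) * w⁻¹ * (y * r)⁻¹)) =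
      (QuotientGroup.mk' (pCore 3 L) (y * (w * y * w⁻¹)⁻¹))⁻¹ := by
    rw [map_mul _ w, map_mul _ _ (y * r)⁻¹, map_mul _ (y * r) w⁻¹, map_inv _ (y * r), hmk]
    simp only [map_mul, map_inv, mul_inv_rev, inv_inv]
    group
  have h3 : Two (QuotientGroup.mk' (pCore 3 L) (w * ((y * r) * w⁻¹ * (y * r)⁻¹))) := h1.map _
  rw [h2] at h3
  have h4 := h3.eq_one (m := 3) (by decide) (by rw [inv_pow, ← map_pow, hc3, map_one, inv_one])
  apply hc
  exact (QuotientGroup.eq_one_iff _).1 (inv_eq_one.1 h4)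

/-- if Sylow 2-subgroups are self-normalizing -/
theorem TC.false_of_sl3_sn [Finite L] {P : Subgroup L} {α : MulAut L} (h : TC P α) {J : Subgroup L}
    (hJ : J.IsSubnormal) {Q : Subgroup L} (hQ2 : IsPGroup 2 Q)
    (hQJ : Q ≤ J) (hQn : (Q.subgroupOf J).Normal) (hJQ : ∀ x ∈ J, x ^ 3 ∈ Q) {y : L} (hy : y ∈ J) (hy3 : y ^ 3 = 1)
    (hyc : ∀ x ∈ J, (∀ q ∈ Q, x * q = q * x) → x * y = y * x) (hyQ : ¬ ∀ q ∈ Q, y * q = q * y)
    (hn : normalizer (P : Set L) ≤ P) : False := by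
  have : Fact (Nat.Prime 2) := ⟨Nat.prime_two⟩
  have hp3 : Fact (Nat.Prime 3) := ⟨Nat.prime_three⟩
  have hR3n : (pCore 3 L).Normal := Lib.Cores.pCore_normal 3
  have hR3p : IsPGroup 3 (pCore 3 L) := Lib.Cores.pCore_isPGroup 3
  obtain ⟨r, hr, hfix⟩ := h.exists_fix_of_sl3 hJ hQ2 hQJ hQn hJQ hy hy3 hyc
  obtain ⟨k, hk⟩ := two_of_mem h.pgr (hn (h.nor _ hfix))
  have hrm : QuotientGroup.mk' (pCore 3 L) r = 1 := (QuotientGroup.eq_one_iff _).2 hr
  have h1 : (QuotientGroup.mk' (pCore 3 L) y) ^ 2 ^ k = 1 := by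
    have := congrArg (QuotientGroup.mk' (pCore 3 L)) hk
    rwa [map_pow, map_mul, hrm, mul_one, map_one] at this
  have h2 : QuotientGroup.mk' (pCore 3 L) y = 1 :=
    Two.eq_one (m := 3) ⟨k, h1⟩ (by decide) (by rw [← map_pow, hy3, map_one])
  have h3 : y ∈ pCore 3 L := (QuotientGroup.eq_one_iff _).1 h2
  exact hyQ fun q hq => (comm_cores (PLocal.SubnormalCore.le_pCore_of_normal_subnormal hQJ hQn hJ hQ2 hq) h3).symm

end lem

section data

variable {L : Type*} [Group L]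

/-- the data of `SL₂(3)` -/
theorem sl3_data {J : Subgroup L} {F : Type*} [Field F] [Fintype F] (h3 : Fintype.card F = 3)
    (e : J ≃* Matrix.SpecialLinearGroup (Fin 2) F) : ∃ Q : Subgroup L, IsPGroup 2 Q ∧ Q ≤ J ∧
      (Q.subgroupOf J).Normal ∧ (∀ x ∈ J, x ^ 3 ∈ Q) ∧ (∀ x ∈ J, (∀ q ∈ Q, x * q = q * x) → ∀ y ∈ J, x * y = y * x) ∧
      ∀ x ∈ J, x ^ 3 = 1 → (∀ q ∈ Q, x * q = q * x) → x = 1 := by
  obtain ⟨hc, P, hPn, hPi, ⟨eP⟩, hP8, hZ⟩ := SylowLFive.ThreeAux.exists_q8 h3 e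
  have hfin : Finite J := Nat.finite_of_card_ne_zero (by rw [hc]; norm_num)
  have hcP : Nat.card P = 8 := by
    rw [Nat.card_congr eP.toEquiv, Nat.card_eq_fintype_card, QuaternionGroup.card]
  have hQJ : (P.map J.subtype).subgroupOf J = P := comap_map_eq_self_of_injective J.subtype_injective _
  have hp : IsPGroup 2 P := IsPGroup.of_card (n := 3) (by rw [hcP]; norm_num)
  -- `C(P) ≤ P`
  have h1 : ∀ x : J, (∀ q ∈ P, x * q = q * x) → x ∈ P := by
    intro x hx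
    by_contra hxP
    have htop : P ⊔ zpowers x = ⊤ := by
      have h4 : (P ⊔ zpowers x).index ∣ P.index := index_dvd_of_le le_sup_left
      rw [hPi] at h4
      rcases (Nat.dvd_prime Nat.prime_three).1 h4 with h5 | h5
      · exact index_eq_one.1 h5
      · exfalso
        have h6 : P = P ⊔ zpowers x := by
          apply eq_of_le_of_card_ge le_sup_left
          have h7 := card_mul_index P
          have h8 := card_mul_index (P ⊔ zpowers x)
          rw [hPi] at h7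
          rw [h5] at h8
          omega
        apply hxP
        rw [h6]
        exact mem_sup_right (mem_zpowers x)
    have h5 : x ∈ center J := by
      rw [mem_center_iff]
      have h6 : (⊤ : Subgroup J) ≤ centralizer {x} := by
        rw [← htop, sup_le_iff]
        constructor
        · intro q hq
          rw [mem_centralizer_singleton_iff]
          exact (hx q hq).symm
        · rw [zpowers_le, mem_centralizer_singleton_iff]
      intro g
      exact mem_centralizer_singleton_iff.1 (h6 (mem_top g))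
    have h6 := hZ x h5
    apply hxP
    rw [hP8]
    rw [show (8 : ℕ) = 2 * 4 from rfl, pow_mul, pow_two, h6, one_pow]
  -- `Z(P)` is central
  have h2 : ∀ x ∈ P, (∀ q ∈ P, x * q = q * x) → ∀ y : J, x * y = y * x := by
    -- elements of the center of `Q8`
    have hQ8 : ∀ a b : QuaternionGroup 2, (∀ c, a * c = c * a) → (∀ c, b * c = c * b) → a ≠ 1 → b ≠ 1 → a = b := by
      decide
    intro x hx hxc y
    by_cases hx1 : x = 1
    · rw [hx1]; group
    have hy1 : ∀ q ∈ P, (y * x * y⁻¹) * q = q * (y * x * y⁻¹) := by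
      intro q hq
      have h3 : y⁻¹ * q * y ∈ P := by
        have := hPn.conj_mem q hq y⁻¹
        rwa [inv_inv] at this
      calc (y * x * y⁻¹) * q = y * (x * (y⁻¹ * q * y)) * y⁻¹ := by group
        _ = y * ((y⁻¹ * q * y) * x) * y⁻¹ := by rw [hxc _ h3]
        _ = _ := by group
    have h3 := hQ8 (eP ⟨x, hx⟩) (eP ⟨y * x * y⁻¹, hPn.conj_mem x hx y⟩)
      (fun c => by
        obtain ⟨c, rfl⟩ := eP.surjective c
        rw [← map_mul, ← map_mul]
        exact congrArg eP (Subtype.ext (hxc c c.2)))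
      (fun c => by
        obtain ⟨c, rfl⟩ := eP.surjective c
        rw [← map_mul, ← map_mul]
        exact congrArg eP (Subtype.ext (hy1 c c.2)))
      (fun h => hx1 (by
        have h4 := eP.injective (h.trans (map_one eP).symm)
        exact congrArg Subtype.val h4))
      (fun h => hx1 (by
        have h4 : (⟨y * x * y⁻¹, hPn.conj_mem x hx y⟩ : P) = 1 := eP.injective (h.trans (map_one eP).symm)
        have h5 : y * x * y⁻¹ = 1 := congrArg Subtype.val h4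
        calc x = y⁻¹ * (y * x * y⁻¹) * y := by group
          _ = 1 := by rw [h5]; group))
    have h4 : x = y * x * y⁻¹ := congrArg Subtype.val (eP.injective h3)
    calc x * y = (y * x * y⁻¹) * y := by rw [← h4]
      _ = y * x := by group
  refine ⟨P.map J.subtype, hp.map _, ?_, ?_, ?_, ?_, ?_⟩
  · rintro _ ⟨x, -, rfl⟩; exact x.2
  · rw [hQJ]; exact hPn
  · intro x hx
    refine ⟨(⟨x, hx⟩ : J) ^ 3, ?_, rfl⟩
    rw [← hPi]
    exact P.pow_index_mem _
  · intro x hx hxc y hy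
    have h3 : ∀ q ∈ P, (⟨x, hx⟩ : J) * q = q * ⟨x, hx⟩ := fun q hq => Subtype.ext (hxc q ⟨q, hq, rfl⟩)
    exact congrArg Subtype.val (h2 ⟨x, hx⟩ (h1 _ h3) h3 ⟨y, hy⟩)
  · intro x hx hx3 hxc
    have h3 : ∀ q ∈ P, (⟨x, hx⟩ : J) * q = q * ⟨x, hx⟩ := fun q hq => Subtype.ext (hxc q ⟨q, hq, rfl⟩)
    obtain ⟨k, hk⟩ := hp ⟨_, h1 _ h3⟩
    have h4 : Two x := ⟨k, congrArg (fun z : P => ((z : J) : L)) hk⟩
    exact h4.eq_one (m := 3) (by decide) hx3

end data

section loc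

variable {L : Type*} [Group L]

/-- **local subgroups with a subnormal `SL₂(3)`** (general form) -/
theorem NoTC.of_sl3_gen [Finite L] {D M J : Subgroup L} (hD : IsPGroup 2 D) (hDM : D ≤ M)
    (hn : M ≤ normalizer (D : Set L))
    (hM : ∀ α : MulAut L, (∀ x, α (α x) = x) → (∀ x ∈ D, α x = x) → ∀ x ∈ M, α x ∈ M)
    (hJM : J ≤ M) (hs : (J.subgroupOf M).IsSubnormal) {F : Type*} [Field F] [Fintype F] (h3 : Fintype.card F = 3)
    (e : J ≃* Matrix.SpecialLinearGroup (Fin 2) F) {y w : L} (hy : y ∈ J) (hy1 : y ≠ 1) (hy3 : y ^ 3 = 1)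
    (hwM : w ∈ M) (hw : Two w)
    (h : w * y * w⁻¹ = y⁻¹ ∨ ∀ x ∈ J, (w * y * w⁻¹) * x = x * (w * y * w⁻¹)) : NoTC L := by
  intro P α hT
  obtain ⟨P', α', h', hi⟩ := hT.exists_pos M
  have hDP := h'.le_of_normal hi hD hDM hn
  have hr := h'.res M (hM α' h'.sq fun x hx => h'.fix x (hDP hx)) hi
  obtain ⟨Q, hQ2, hQJ, hQn, hJQ, hyc, hyQ⟩ := sl3_data h3 e
  have hQM : Q ≤ M := hQJ.trans hJM
  have hyM : y ∈ M := hJM hy
  have hQ2' : IsPGroup 2 (Q.subgroupOf M) := hQ2.comap_subtype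
  have hle : Q.subgroupOf M ≤ J.subgroupOf M := fun x hx => hQJ hx
  have hQn' : ((Q.subgroupOf M).subgroupOf (J.subgroupOf M)).Normal := by
    constructor
    rintro ⟨x, hx⟩ hxQ ⟨g, hg⟩
    exact hQn.conj_mem ⟨x, hx⟩ hxQ ⟨g, hg⟩
  -- `c³ = 1` and `c` does not centralize `Q`
  have key : (y * (w * y * w⁻¹)⁻¹) ^ 3 = 1 ∧ ¬ ∀ q ∈ Q, (y * (w * y * w⁻¹)⁻¹) * q = q * (y * (w * y * w⁻¹)⁻¹) := by
    rcases h with h | h
    · rw [h, inv_inv]
      constructor
      · rw [← pow_two, ← pow_mul, mul_comm, pow_mul, hy3, one_pow]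
      · intro h1
        have h2 := hyQ (y * y) (mul_mem hy hy) (by
          rw [← pow_two, ← pow_mul, mul_comm, pow_mul, hy3, one_pow]) h1
        apply hy1
        have h4 : y ^ 3 = y * y * y := by rw [pow_succ, pow_two]
        rw [h2, one_mul] at h4
        rw [← h4, hy3]
    · have hcw : Commute y (w * y * w⁻¹)⁻¹ := by
        have : Commute (w * y * w⁻¹) y := h y hy
        exact this.symm.inv_right
      constructor
      · rw [hcw.mul_pow, hy3, inv_pow, conj_pow, hy3]; group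
      · intro h1
        apply hy1
        refine hyQ y hy hy3 fun q hq => ?_
        have h2 := h1 q hq
        have h4 : (w * y * w⁻¹) * q = q * (w * y * w⁻¹) := h q (hQJ hq)
        calc y * q = (y * (w * y * w⁻¹)⁻¹) * ((w * y * w⁻¹) * q) := by group
          _ = (y * (w * y * w⁻¹)⁻¹) * (q * (w * y * w⁻¹)) := by rw [h4]
          _ = ((y * (w * y * w⁻¹)⁻¹) * q) * (w * y * w⁻¹) := by group
          _ = (q * (y * (w * y * w⁻¹)⁻¹)) * (w * y * w⁻¹) := by rw [h2]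
          _ = q * y := by group
  refine hr.false_of_sl3 (J := J.subgroupOf M) hs hQ2' hle hQn' (y := ⟨y, hyM⟩) (w := ⟨w, hwM⟩) ?_ hy ?_ ?_ ?_ ?_ ?_
  · intro x hx
    exact hJQ x hx
  · exact Subtype.ext hy3
  · intro x hx hxc
    exact Subtype.ext (hyc x hx (fun q hq => congrArg Subtype.val (hxc ⟨q, hQM hq⟩ hq)) y hy)
  · obtain ⟨k, hk⟩ := hw
    exact ⟨k, Subtype.ext hk⟩
  · exact Subtype.ext key.1
  · intro hc
    apply key.2
    intro q hq
    have h5 : (⟨q, hQM hq⟩ : M) ∈ pCore 2 M :=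
      PLocal.SubnormalCore.le_pCore_of_normal_subnormal hle hQn' hs hQ2' (mem_subgroupOf.2 hq)
    exact congrArg Subtype.val (comm_cores h5 hc).symm

/-- the centralizer of a 2-element `j` -/
theorem NoTC.of_sl3 [Finite L] {j : L} {J : Subgroup L} (hj : Two j) (hJj : J ≤ centralizer ({j} : Set L))
    (hs : (J.subgroupOf (centralizer ({j} : Set L))).IsSubnormal) {F : Type*} [Field F] [Fintype F]
    (h3 : Fintype.card F = 3) (e : J ≃* Matrix.SpecialLinearGroup (Fin 2) F) {y w : L} (hy : y ∈ J) (hy1 : y ≠ 1)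
    (hy3 : y ^ 3 = 1) (hwj : w * j = j * w) (hw : Two w)
    (h : w * y * w⁻¹ = y⁻¹ ∨ ∀ x ∈ J, (w * y * w⁻¹) * x = x * (w * y * w⁻¹)) : NoTC L := by
  refine NoTC.of_sl3_gen (D := zpowers j) (M := centralizer ({j} : Set L)) (isPGroup_zpowers hj) ?_ ?_ ?_ hJj hs h3 e
    hy hy1 hy3 (mem_centralizer_singleton_iff.2 hwj) hw h
  · rw [zpowers_le, mem_centralizer_singleton_iff]
  · exact centralizer_le_normalizer_zpowers j
  · intro α _ hα
    exact mem_centralizer_of_fix (hα j (mem_zpowers j))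

/-- the normalizer of a 2-subgroup `D` -/
theorem NoTC.of_sl3_norm [Finite L] {D J : Subgroup L} (hD : IsPGroup 2 D) (hJD : J ≤ normalizer (D : Set L))
    (hs : (J.subgroupOf (normalizer (D : Set L))).IsSubnormal) {F : Type*} [Field F] [Fintype F]
    (h3 : Fintype.card F = 3) (e : J ≃* Matrix.SpecialLinearGroup (Fin 2) F) {y w : L} (hy : y ∈ J) (hy1 : y ≠ 1)
    (hy3 : y ^ 3 = 1) (hwD : w ∈ normalizer (D : Set L)) (hw : Two w)
    (h : w * y * w⁻¹ = y⁻¹ ∨ ∀ x ∈ J, (w * y * w⁻¹) * x = x * (w * y * w⁻¹)) : NoTC L :=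
  NoTC.of_sl3_gen hD le_normalizer le_rfl (fun _ h1 h2 => mem_normalizer_of_fix h2 h1) hJD hs h3 e hy hy1 hy3 hwD hw h

end loc

end Cfsg.Agent.H445
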