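import Mathlib

/-!
# S3223: involutory automorphisms with a 2-closed fixed point group (helper445)

`TC P α`: `P` is a Sylow 2-subgroup of `L`, `α² = 1`, `α` fixes `P` pointwise and the fixed points of `α` normalize `P`.
`NoTC L`: there is no such pair.  For S3223 we need `NoTC L` for all simple groups `L` outside the list of S3223.

Tools: `TC.two_mem`, `TC.comm_two`, `TC.false_of_inv` (`y ≠ 1` of odd order fixed by `α` is not inverted by a fixed
2-element), `TC.congr`, `TC.conj`, `TC.res` (restriction to an invariant subgroup), `TC.quo` (quotient by a central subgroup),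
`NoZ`, `SylInn`, `NoTC.of_noZ` (if automorphisms fixing a Sylow 2-subgroup are inner).
-/

set_option autoImplicit false

namespace Cfsg.Agent.H445

open Subgroup

universe u v

/-- `P` is a Sylow 2-subgroup, `α² = 1`, `α` fixes `P` pointwise and the fixed points of `α` normalize `P`. -/
structure TC {L : Type*} [Group L] (P : Subgroup L) (α : MulAut L) : Prop where
  pgr : IsPGroup 2 P
  idx : Odd P.index
  sq : ∀ x, α (α x) = x
  fix : ∀ x ∈ P, α x = x
  nor : ∀ x, α x = x → x ∈ normalizer (P : Set L)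

/-- There is no pair `P`, `α` with `TC P α`. -/
def NoTC (L : Type*) [Group L] : Prop := ∀ (P : Subgroup L) (α : MulAut L), ¬ TC P α

/-- 2-element -/
def Two {L : Type*} [Group L] (x : L) : Prop := ∃ k : ℕ, x ^ 2 ^ k = 1

section basic

variable {L : Type*} [Group L] {P : Subgroup L} {α : MulAut L}

theorem isPGroup_zpowers {x : L} (h : Two x) : IsPGroup 2 (zpowers x) := by
  obtain ⟨k, hk⟩ := h
  rintro ⟨y, hy⟩
  obtain ⟨n, rfl⟩ := mem_zpowers_iff.1 hy
  refine ⟨k, Subtype.ext ?_⟩
  change (x ^ n) ^ 2 ^ k = 1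
  rw [← zpow_natCast, zpow_comm, zpow_natCast, hk, one_zpow]

theorem Two.conj {x : L} (h : Two x) (g : L) : Two (g * x * g⁻¹) := by
  obtain ⟨k, hk⟩ := h
  exact ⟨k, by rw [conj_pow, hk, mul_one, mul_inv_cancel]⟩

theorem Two.map {M : Type*} [Group M] (f : L →* M) {x : L} (h : Two x) : Two (f x) := by
  obtain ⟨k, hk⟩ := h
  exact ⟨k, by rw [← map_pow, hk, map_one]⟩

theorem Two.inv {x : L} (h : Two x) : Two x⁻¹ := by
  obtain ⟨k, hk⟩ := h
  exact ⟨k, by rw [inv_pow, hk, inv_one]⟩

theorem two_of_mem (hP : IsPGroup 2 P) {x : L} (hx : x ∈ P) : Two x := by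
  obtain ⟨k, hk⟩ := hP ⟨x, hx⟩
  exact ⟨k, congrArg Subtype.val hk⟩

/-- an element of odd order which is a 2-element is trivial -/
theorem Two.eq_one {x : L} (h : Two x) {m : ℕ} (hm : Odd m) (hx : x ^ m = 1) : x = 1 := by
  obtain ⟨k, hk⟩ := h
  have hc : Nat.Coprime m (2 ^ k) := Nat.Coprime.pow_right _ (Nat.coprime_two_right.2 hm)
  have := Nat.dvd_gcd (orderOf_dvd_of_pow_eq_one hx) (orderOf_dvd_of_pow_eq_one hk)
  rw [hc] at this
  exact orderOf_eq_one_iff.1 (Nat.dvd_one.1 this)

/-- `P` is a Sylow 2-subgroup -/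
theorem isSylow [Finite L] (hp : IsPGroup 2 P) (hi : Odd P.index) : ∃ S : Sylow 2 L, (S : Subgroup L) = P :=
  ⟨hp.toSylow (by rw [← even_iff_two_dvd, Nat.not_even_iff_odd]; exact hi), rfl⟩

/-- a 2-element normalizing a Sylow 2-subgroup lies in it -/
theorem mem_of_two_of_nor [Finite L] (hp : IsPGroup 2 P) (hi : Odd P.index) {x : L} (h2 : Two x)
    (hn : x ∈ normalizer (P : Set L)) : x ∈ P := by
  obtain ⟨S, hS⟩ := isSylow hp hi
  have h1 : zpowers x ⊓ normalizer ((S : Subgroup L) : Set L) = zpowers x ⊓ S :=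
    (isPGroup_zpowers h2).inf_normalizer_sylow S
  rw [hS] at h1
  have h3 : x ∈ zpowers x ⊓ normalizer (P : Set L) := ⟨mem_zpowers x, hn⟩
  rw [h1] at h3
  exact h3.2

namespace TC

theorem sylow [Finite L] (h : TC P α) : ∃ S : Sylow 2 L, (S : Subgroup L) = P := isSylow h.pgr h.idx

/-- the fixed 2-elements lie in `P` -/
theorem two_mem [Finite L] (h : TC P α) {x : L} (hx : α x = x) (h2 : Two x) : x ∈ P :=
  mem_of_two_of_nor h.pgr h.idx h2 (h.nor x hx)

/-- fixed 2-elements `w` and fixed elements `y` have a commutator which is a 2-element -/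
theorem comm_two [Finite L] (h : TC P α) {w y : L} (hw : α w = w) (h2 : Two w) (hy : α y = y) :
    Two (w * (y * w⁻¹ * y⁻¹)) := by
  have h1 := h.two_mem hw h2
  exact two_of_mem h.pgr (mul_mem h1 ((mem_normalizer_iff.1 (h.nor y hy) _).1 (inv_mem h1)))

/-- a fixed element of odd order is not inverted by a fixed 2-element -/
theorem eq_one_of_inv [Finite L] (h : TC P α) {w y : L} (hw : α w = w) (h2 : Two w) (hy : α y = y)
    (hi : w * y * w⁻¹ = y⁻¹) {m : ℕ} (hm : Odd m) (hym : y ^ m = 1) : y = 1 := by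
  have h1 := h.comm_two hw h2 hy
  have h3 : w * (y * w⁻¹ * y⁻¹) = y⁻¹ * y⁻¹ := by
    calc w * (y * w⁻¹ * y⁻¹) = w * y * w⁻¹ * y⁻¹ := by group
      _ = _ := by rw [hi]
  rw [h3] at h1
  have h4 : y⁻¹ * y⁻¹ = 1 := h1.eq_one hm (by
    rw [← pow_two, ← pow_mul, mul_comm, pow_mul, inv_pow, hym, inv_one, one_pow])
  have h5 : Two y := ⟨1, by
    rw [pow_one, pow_two, ← inv_inj, mul_inv_rev, h4, inv_one]⟩
  exact h5.eq_one hm hym

/-- transport along an isomorphism -/
theorem congr {M : Type*} [Group M] (e : L ≃* M) (h : TC P α) :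
    TC (P.map e.toMonoidHom) ((e.symm.trans α).trans e) where
  pgr := h.pgr.map _
  idx := by
    rw [index_map_of_bijective e.bijective]
    exact h.idx
  sq := fun x => by simp [h.sq]
  fix := by
    rintro _ ⟨x, hx, rfl⟩
    simp [h.fix x hx]
  nor := by
    intro x hx
    have h1 : α (e.symm x) = e.symm x := by
      apply e.injective
      simpa using hx
    have h2 := h.nor _ h1
    rw [mem_normalizer_iff] at h2 ⊢
    intro y
    have h3 := h2 (e.symm y)
    have key : ∀ z : M, z ∈ P.map e.toMonoidHom ↔ e.symm z ∈ P := fun z => by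
      rw [mem_map_equiv]
    rw [key, key, h3]
    simp

/-- conjugation by an element of `L` -/
theorem conj (h : TC P α) (g : L) :
    TC (P.map (MulAut.conj g).toMonoidHom) (((MulAut.conj g).symm.trans α).trans (MulAut.conj g)) :=
  h.congr (MulAut.conj g)

end TC

theorem NoTC.of_equiv {M : Type*} [Group M] (e : L ≃* M) (h : NoTC L) : NoTC M :=
  fun _ _ h1 => h _ _ (h1.congr e.symm)

/-- 2-elements of a 2-closed group are closed under multiplication -/
def TwoClosed (H : Type*) [Group H] : Prop := ∀ x y : H, Two x → Two y → Two (x * y)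

theorem TC.twoClosed [Finite L] (h : TC P α) {H : Subgroup L} (hH : ∀ x ∈ H, α x = x) : TwoClosed H := by
  intro x y hx hy
  have h1 : Two (x : L) := hx.map H.subtype
  have h2 : Two (y : L) := hy.map H.subtype
  obtain ⟨k, hk⟩ := two_of_mem h.pgr (mul_mem (h.two_mem (hH _ x.2) h1) (h.two_mem (hH _ y.2) h2))
  exact ⟨k, Subtype.ext hk⟩

theorem TwoClosed.congr {H M : Type*} [Group H] [Group M] (e : H ≃* M) (h : TwoClosed H) : TwoClosed M := by
  intro x y hx hy
  have h1 := h _ _ (hx.map e.symm.toMonoidHom) (hy.map e.symm.toMonoidHom)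
  have h2 := h1.map e.toMonoidHom
  simpa using h2

theorem TwoClosed.of_injective {H M : Type*} [Group H] [Group M] (f : H →* M) (hf : Function.Injective f)
    (h : TwoClosed M) : TwoClosed H := by
  intro x y hx hy
  obtain ⟨k, hk⟩ := h _ _ (hx.map f) (hy.map f)
  exact ⟨k, hf (by rw [map_pow, map_mul, hk, map_one])⟩

/-- the automorphism is not trivial, if `L` is not 2-closed -/
theorem TC.ne_one [Finite L] (h : TC P α) (hL : ¬ TwoClosed L) : ∃ x, α x ≠ x := by
  by_contra hcon
  push Not at hcon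
  exact hL ((h.twoClosed (H := ⊤) fun x _ => hcon x).congr topEquiv)

end basic

section res

variable {L : Type*} [Group L] {P : Subgroup L} {α : MulAut L}

/-- restriction of an involutory automorphism to an invariant subgroup -/
def resAut (α : MulAut L) (hs : ∀ x, α (α x) = x) (H : Subgroup L) (hH : ∀ x ∈ H, α x ∈ H) : MulAut H where
  toFun x := ⟨α x, hH x x.2⟩
  invFun x := ⟨α x, hH x x.2⟩
  left_inv x := Subtype.ext (hs x)
  right_inv x := Subtype.ext (hs x)
  map_mul' _ _ := Subtype.ext (map_mul α _ _)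

theorem coe_resAut (hs : ∀ x, α (α x) = x) (H : Subgroup L) (hH : ∀ x ∈ H, α x ∈ H) (x : H) :
    (resAut α hs H hH x : L) = α x := rfl

/-- restriction to an invariant subgroup `H` such that `P ⊓ H` is a Sylow 2-subgroup of `H` -/
theorem TC.res (h : TC P α) (H : Subgroup L) (hH : ∀ x ∈ H, α x ∈ H) (hi : Odd (P.relIndex H)) :
    TC (P.subgroupOf H) (resAut α h.sq H hH) where
  pgr := h.pgr.comap_subtype
  idx := hi
  sq x := Subtype.ext (h.sq x)
  fix x hx := Subtype.ext (h.fix x (mem_subgroupOf.1 hx))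
  nor x hx := by
    have h1 := mem_normalizer_iff.1 (h.nor x (congrArg Subtype.val hx))
    rw [mem_normalizer_iff]
    intro y
    rw [mem_subgroupOf, mem_subgroupOf]
    exact h1 y

end res

section quo

variable {L : Type*} [Group L] {P : Subgroup L} {α : MulAut L}

/-- quotient by a central subgroup -/
theorem TC.quo [Finite L] (h : TC P α) (Z : Subgroup L) [Z.Normal] (hZ : Z ≤ center L) (hZα : ∀ x ∈ Z, α x ∈ Z) :
    ∃ β : MulAut (L ⧸ Z), TC (P.map (QuotientGroup.mk' Z)) β := by
  have hmap : Z.map (α : L →* L) = Z := by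
    apply le_antisymm
    · rintro _ ⟨x, hx, rfl⟩
      exact hZα x hx
    · intro x hx
      exact ⟨α x, hZα x hx, h.sq x⟩
  refine ⟨QuotientGroup.congr Z Z α hmap, h.pgr.map _, ?_, ?_, ?_, ?_⟩
  · exact Odd.of_dvd_nat h.idx (index_map_dvd P (QuotientGroup.mk'_surjective Z))
  · intro x
    obtain ⟨x, rfl⟩ := QuotientGroup.mk'_surjective Z x
    simp [h.sq]
  · rintro _ ⟨x, hx, rfl⟩
    simp [h.fix x hx]
  · intro x hx
    obtain ⟨x, rfl⟩ := QuotientGroup.mk'_surjective Z x
    -- the elements `d` with `α d ∈ d Z`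
    let D : Subgroup L :=
      { carrier := {d | d⁻¹ * α d ∈ Z}
        one_mem' := by simp
        mul_mem' := by
          intro a b ha hb
          have e : (a * b)⁻¹ * α (a * b) = (a⁻¹ * α a) * (b⁻¹ * α b) := by
            have hc := mem_center_iff.1 (hZ ha) (b⁻¹)
            rw [map_mul]
            calc (a * b)⁻¹ * (α a * α b) = b⁻¹ * (a⁻¹ * α a) * α b := by group
              _ = (a⁻¹ * α a) * b⁻¹ * α b := by rw [hc]
              _ = _ := by group
          change (a * b)⁻¹ * α (a * b) ∈ Z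
          rw [e]; exact mul_mem ha hb
        inv_mem' := by
          intro a ha
          have hc := mem_center_iff.1 (hZ (inv_mem ha)) a
          have e : (a⁻¹)⁻¹ * α a⁻¹ = (a⁻¹ * α a)⁻¹ := by
            rw [map_inv, inv_inv]
            calc a * (α a)⁻¹ = a * ((a⁻¹ * α a)⁻¹ * a⁻¹) := by group
              _ = (a * (a⁻¹ * α a)⁻¹) * a⁻¹ := by group
              _ = (a⁻¹ * α a)⁻¹ * a * a⁻¹ := by rw [hc]
              _ = _ := by group
          change (a⁻¹)⁻¹ * α a⁻¹ ∈ Z
          rw [e]; exact inv_mem ha }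
    have hxD : x ∈ D := by
      have h1 : (QuotientGroup.mk' Z (α x)) = QuotientGroup.mk' Z x := by simpa using hx
      exact QuotientGroup.eq.1 h1.symm
    -- the homomorphism `D → center L`
    let f : D →* center L :=
      { toFun := fun d => ⟨(d : L)⁻¹ * α d, hZ d.2⟩
        map_one' := Subtype.ext (by simp)
        map_mul' := by
          rintro ⟨a, ha⟩ ⟨b, hb⟩
          apply Subtype.ext
          change (a * b)⁻¹ * α (a * b) = (a⁻¹ * α a) * (b⁻¹ * α b)
          have hc := mem_center_iff.1 (hZ ha) (b⁻¹)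
          rw [map_mul]
          calc (a * b)⁻¹ * (α a * α b) = b⁻¹ * (a⁻¹ * α a) * α b := by group
            _ = (a⁻¹ * α a) * b⁻¹ * α b := by rw [hc]
            _ = _ := by group }
    have hf : ∀ d : D, ((f d : center L) : L) = (d : L)⁻¹ * α d := fun _ => rfl
    -- `α` inverts the values
    have hinv : ∀ d : D, α (f d : center L) = ((f d : center L) : L)⁻¹ := by
      intro d
      rw [hf, map_mul, map_inv, h.sq, mul_inv_rev, inv_inv]
    have hPD : P ≤ D := fun y hy => by
      change y⁻¹ * α y ∈ Z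
      rw [h.fix y hy, inv_mul_cancel]; exact one_mem _
    -- every value has odd order
    have hodd : ∀ d : D, Odd (orderOf (f d)) := by
      have h1 : f.ker.index = Nat.card f.range := by
        rw [← Nat.card_congr (QuotientGroup.quotientKerEquivRange f).toEquiv]; rfl
      have h2 : P.subgroupOf D ≤ f.ker := by
        intro y hy
        rw [MonoidHom.mem_ker]
        apply Subtype.ext
        rw [hf, h.fix y (mem_subgroupOf.1 hy), inv_mul_cancel]
        rfl
      have h3 : f.ker.index ∣ P.index :=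
        (index_dvd_of_le h2).trans (by
          have := relIndex_dvd_index_of_le (H := P) (K := D) hPD
          exact this)
      intro d
      have h4 : orderOf (f d) ∣ Nat.card f.range := by
        have := orderOf_dvd_natCard (⟨f d, d, rfl⟩ : f.range)
        rwa [← Subgroup.orderOf_coe] at this
      exact Odd.of_dvd_nat h.idx (h4.trans (h1 ▸ h3))
    obtain ⟨m, hm⟩ := hodd ⟨x, hxD⟩
    obtain ⟨c, hc⟩ : ∃ c : L, c = ((f ⟨x, hxD⟩ : center L) : L) := ⟨_, rfl⟩
    have hc1 : c ^ (2 * m + 1) = 1 := by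
      have h1 := pow_orderOf_eq_one (f ⟨x, hxD⟩)
      rw [hm] at h1
      rw [hc]
      exact congrArg Subtype.val h1
    have hcZ : c ∈ Z := by rw [hc]; exact hxD
    have hαx : α x = x * c := by rw [hc, hf]; group
    have hαc : α c = c⁻¹ := by rw [hc]; exact hinv _
    -- `x c^(m+1)` is fixed
    have hfix : α (x * c ^ (m + 1)) = x * c ^ (m + 1) := by
      rw [map_mul, map_pow, hαx, hαc, mul_assoc]
      congr 1
      have h1 : c ^ m * c ^ (m + 1) = 1 := by
        rw [← pow_add, show m + (m + 1) = 2 * m + 1 by ring, hc1]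
      rw [pow_succ' c⁻¹ m, mul_inv_cancel_left, inv_pow, inv_eq_of_mul_eq_one_right h1]
    have hn := h.nor _ hfix
    have hmk : QuotientGroup.mk' Z x = QuotientGroup.mk' Z (x * c ^ (m + 1)) := by
      rw [map_mul]
      have : QuotientGroup.mk' Z (c ^ (m + 1)) = 1 := (QuotientGroup.eq_one_iff _).2 (pow_mem hcZ _)
      rw [this, mul_one]
    rw [hmk]
    have h5 := le_normalizer_map (H := P) (QuotientGroup.mk' Z)
    exact h5 ⟨_, hn, rfl⟩

/-- `NoTC` for a central quotient -/
theorem NoTC.of_quo [Finite L] (h : NoTC (L ⧸ center L)) : NoTC L := by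
  intro P α h1
  obtain ⟨β, hβ⟩ := h1.quo (center L) le_rfl (by
    intro x hx
    rw [mem_center_iff] at hx ⊢
    intro g
    have := hx (α g)
    have h2 := congrArg α this
    rwa [map_mul, map_mul, h1.sq] at h2)
  exact h _ _ hβ

end quo

section inner

variable {L : Type*} [Group L]

/-- `C(z) ≰ N(P)` for the involutions `z ∈ Z(P)`, `P` a Sylow 2-subgroup -/
def NoZ (L : Type*) [Group L] : Prop :=
  ∀ (P : Sylow 2 L) (z : L), z ∈ P → z * z = 1 → z ≠ 1 → (∀ s ∈ P, s * z = z * s) →
    ∃ c, c * z = z * c ∧ c ∉ normalizer ((P : Subgroup L) : Set L)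

/-- an automorphism `α` with `α² = 1` which fixes a Sylow 2-subgroup pointwise is inner -/
def SylInn (L : Type*) [Group L] : Prop :=
  ∀ (P : Sylow 2 L) (α : MulAut L), (∀ x, α (α x) = x) → (∀ x ∈ P, α x = x) → ∃ g : L, ∀ x, α x = g * x * g⁻¹

/-- `NoTC` from `NoZ` and `SylInn` -/
theorem NoTC.of_noZ [Finite L] (hc : center L = ⊥) (h2 : ¬ TwoClosed L) (h : SylInn L) (hz : NoZ L) : NoTC L := by
  intro P α h1
  obtain ⟨S, rfl⟩ := h1.sylow
  obtain ⟨g, hg⟩ := h S α h1.sq h1.fix
  have hgg : g * g = 1 := by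
    have h3 : g * g ∈ center L := by
      rw [mem_center_iff]
      intro x
      have h4 := h1.sq x
      rw [hg, hg] at h4
      calc x * (g * g) = (g * (g * x * g⁻¹) * g⁻¹) * (g * g) := by rw [h4]
        _ = g * g * x := by group
    rwa [hc, mem_bot] at h3
  have hg1 : g ≠ 1 := by
    rintro rfl
    obtain ⟨x, hx⟩ := h1.ne_one h2
    apply hx
    rw [hg]; group
  have hcen : ∀ s ∈ S, s * g = g * s := by
    intro s hs
    have h3 := h1.fix s hs
    rw [hg] at h3
    calc s * g = (g * s * g⁻¹) * g := by rw [h3]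
      _ = g * s := by group
  have hgS : g ∈ (S : Subgroup L) := h1.two_mem (by rw [hg]; group) ⟨1, by rw [pow_one, pow_two, hgg]⟩
  obtain ⟨c, hc1, hc2⟩ := hz S g hgS hgg hg1 hcen
  refine hc2 (h1.nor c ?_)
  rw [hg, ← hc1]; group

/-- `NoZ` if some involution, conjugate to every involution of `Z(P)`, commutes with an element `y ≠ 1` of odd order
and with a 2-element inverting `y` -/
theorem NoZ.of_conj [Finite L] {z₀ y w : L}
    (hcon : ∀ (P : Sylow 2 L) (z : L), z ∈ P → z * z = 1 → z ≠ 1 → (∀ s ∈ P, s * z = z * s) → IsConj z₀ z)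
    (hy : y * z₀ = z₀ * y) (hw : w * z₀ = z₀ * w) (h2 : Two w) (hi : w * y * w⁻¹ = y⁻¹) {m : ℕ} (hm : Odd m)
    (hym : y ^ m = 1) (hy1 : y ≠ 1) : NoZ L := by
  intro P z hzP hzz hz1 hc
  by_contra hcon'
  push Not at hcon'
  obtain ⟨g, hg⟩ := isConj_iff.1 (hcon P z hzP hzz hz1 hc)
  have key : ∀ x, x * z₀ = z₀ * x → (g * x * g⁻¹) * z = z * (g * x * g⁻¹) := by
    intro x hx
    rw [← hg]
    calc g * x * g⁻¹ * (g * z₀ * g⁻¹) = g * (x * z₀) * g⁻¹ := by group
      _ = g * (z₀ * x) * g⁻¹ := by rw [hx]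
      _ = _ := by group
  have hz' : z⁻¹ = z := inv_eq_of_mul_eq_one_left hzz
  -- conjugation by `z`
  have hT : TC (P : Subgroup L) (MulAut.conj z) :=
    { pgr := P.isPGroup'
      idx := by rw [← Nat.not_even_iff_odd, even_iff_two_dvd]; exact P.not_dvd_index
      sq := fun x => by
        change z * (z * x * z⁻¹) * z⁻¹ = x
        rw [hz']
        calc z * (z * x * z) * z = (z * z) * x * (z * z) := by group
          _ = x := by rw [hzz]; group
      fix := fun x hx => by
        change z * x * z⁻¹ = x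
        rw [← hc x hx]; group
      nor := fun x hx => by
        apply hcon' x
        have hx' : z * x * z⁻¹ = x := hx
        calc x * z = (z * x * z⁻¹) * z := by rw [hx']
          _ = z * x := by group }
  have hfix : ∀ x, x * z₀ = z₀ * x → MulAut.conj z (g * x * g⁻¹) = g * x * g⁻¹ := by
    intro x hx
    change z * (g * x * g⁻¹) * z⁻¹ = _
    rw [← key x hx]; group
  have h5 := hT.eq_one_of_inv (hfix w hw) (h2.conj g) (hfix y hy) (by
    calc g * w * g⁻¹ * (g * y * g⁻¹) * (g * w * g⁻¹)⁻¹ = g * (w * y * w⁻¹) * g⁻¹ := by group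
      _ = (g * y * g⁻¹)⁻¹ := by rw [hi]; group) hm (by rw [conj_pow, hym]; group)
  apply hy1
  calc y = g⁻¹ * (g * y * g⁻¹) * g := by group
    _ = 1 := by rw [h5]; group

end inner

end Cfsg.Agent.H445
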